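import Groth.Agent.RPQ28.Ring
import Groth.Agent.ProjLib.QDom
import Groth.Agent.ProjLib.IdealComap
import Groth.Agent.RelVALib.QuotAlg

/-!
# The homogeneous ideals of a closed subscheme of a relative Proj
-/

set_option autoImplicit false
set_option linter.style.haveILetI false
set_option linter.unusedSectionVars false
set_option backward.isDefEq.respectTransparency.types false
set_option maxHeartbeats 1000000
set_option synthInstance.maxHeartbeats 400000

universe u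

open CategoryTheory CategoryTheory.Limits AlgebraicGeometry TopologicalSpace Opposite HomogeneousLocalization
open scoped HomogeneousIdeal

noncomputable section

namespace Groth.Agent.RPQ28

open ProjFP28 (L)

section spec

variable {P : Scheme.{u}} (I : P.IdealSheafData) {R R' : CommRingCat.{u}} (ε : Spec R ⟶ P)

/-- The ideal of an ideal sheaf on an affine piece. -/
def ideal1 : Ideal R :=
  ((I.comap ε).ideal ⟨⊤, isAffineOpen_top _⟩).comap (Scheme.ΓSpecIso R).inv.hom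

theorem ideal1_comp (φ : R ⟶ R') : ideal1 I (Spec.map φ ≫ ε) = (ideal1 I ε).map φ.hom := by
  unfold ideal1
  rw [Scheme.IdealSheafData.comap_comp,
    ProjLib.comap_ideal_eq (I.comap ε) (Spec.map φ) ⟨⊤, isAffineOpen_top _⟩ ⟨⊤, isAffineOpen_top _⟩ (by simp)]
  set J := (I.comap ε).ideal ⟨⊤, isAffineOpen_top _⟩
  have hR := ConcreteCategory.bijective_of_isIso (Scheme.ΓSpecIso R).inv
  have hR' := ConcreteCategory.bijective_of_isIso (Scheme.ΓSpecIso R').inv
  conv_lhs => rw [← Ideal.map_comap_of_surjective _ hR.2 J, Ideal.map_map]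
  have h : ((Spec.map φ).appLE ⊤ ⊤ (by simp)).hom.comp (Scheme.ΓSpecIso R).inv.hom =
      (Scheme.ΓSpecIso R').inv.hom.comp φ.hom := by
    rw [← CommRingCat.hom_comp, ← CommRingCat.hom_comp, Scheme.ΓSpecIso_inv_naturality]
    simp [Scheme.Hom.appLE]
  exact (congrArg _ (congrArg (fun ψ => J.comap (Scheme.ΓSpecIso R).inv.hom |>.map ψ) h)).trans
    (by rw [← Ideal.map_map]; exact Ideal.comap_map_of_bijective _ hR')

end spec

section up

variable {A A' σ σ' : Type u} [CommRing A] [SetLike σ A] [AddSubgroupClass σ A] {𝒜 : ℕ → σ} [GradedRing 𝒜]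
  [CommRing A'] [SetLike σ' A'] [AddSubgroupClass σ' A'] {𝒜' : ℕ → σ'} [GradedRing 𝒜']
  {g : A} {g' : A'} {ψ : A →+* A'} (hu : IsUnit (algebraMap A' (L g') (ψ g)))
  (φ₀ : Away 𝒜 g →+* Away 𝒜' g')

theorem ext_map (hcompat : ∀ y, (φ₀ y).val = up ψ hu y.val) (K : Ideal (Away 𝒜 g)) :
    ext (K.map φ₀) = (ext K).map (up ψ hu) := by
  rw [ext, ext, Ideal.map_map, Ideal.map_map]
  congr 1
  exact RingHom.ext hcompat

theorem map_mem_sat (hcompat : ∀ y, (φ₀ y).val = up ψ hu y.val) {K : Ideal (Away 𝒜 g)} {a : A} (ha : a ∈ sat K) :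
    ψ a ∈ sat (K.map φ₀) := by
  rw [mem_sat_iff, ext_map hu φ₀ hcompat, ← up_algebraMap ψ hu]
  exact Ideal.mem_map_of_mem _ ha

theorem exists_pow_mem_sat (hcompat : ∀ y, (φ₀ y).val = up ψ hu y.val) (h : A) (j : ℕ) (hg' : g' = ψ (g * h ^ j))
    (H1 : ∀ a' : A', ∃ (N : ℕ) (a : A), ψ a = a' * ψ h ^ N) (H2 : ∀ a : A, ψ a = 0 → ∃ N : ℕ, h ^ N * a = 0)
    {K : Ideal (Away 𝒜 g)} {a : A} (ha : ψ a ∈ sat (K.map φ₀)) : ∃ N : ℕ, h ^ N * a ∈ sat K := by
  let α := algebraMap A (L g)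
  let α' := algebraMap A' (L g')
  have hα : ∀ x, up ψ hu (α x) = α' (ψ x) := up_algebraMap ψ hu
  have hg1 : α' g' = α' (ψ g) * α' (ψ h) ^ j :=
    (congrArg α' hg').trans (by rw [map_mul ψ, map_pow ψ, map_mul, map_pow])
  have surj : ∀ y : L g', ∃ (N : ℕ) (z : L g), up ψ hu z = y * α' (ψ h) ^ N := by
    intro y
    obtain ⟨⟨a', ⟨_, M, rfl⟩⟩, hy⟩ := IsLocalization.surj (Submonoid.powers g') y
    obtain ⟨N, b, hb⟩ := H1 a'
    change y * α' (g' ^ M) = α' a' at hy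
    let v : L g := IsLocalization.mk' (L g) b (⟨g ^ M, M, rfl⟩ : Submonoid.powers g)
    refine ⟨N + j * M, v, ?_⟩
    have hv : v * α (g ^ M) = α b := IsLocalization.mk'_spec _ _ _
    have := congrArg (up ψ hu) hv
    rw [map_mul, hα, hα, hb, map_mul, map_pow, ← hy] at this
    simp only [map_pow, hg1] at this
    refine ((hu.pow M).mul_left_inj).1 (this.trans ?_)
    rw [pow_add, mul_pow, ← pow_mul]
    ring
  have inj : ∀ z : L g, up ψ hu z = 0 → ∃ N : ℕ, α h ^ N * z = 0 := by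
    intro z hz
    obtain ⟨⟨b, ⟨_, M, rfl⟩⟩, hb⟩ := IsLocalization.surj (Submonoid.powers g) z
    change z * α (g ^ M) = α b at hb
    have h0 : α' (ψ b) = 0 := by rw [← hα, ← hb, map_mul, hz, zero_mul]
    obtain ⟨⟨_, k, rfl⟩, hk⟩ := (IsLocalization.map_eq_zero_iff (Submonoid.powers g') (L g') _).1 h0
    change g' ^ k * ψ b = 0 at hk
    rw [hg', ← map_pow, ← map_mul] at hk
    obtain ⟨N, hN⟩ := H2 _ hk
    refine ⟨N + j * k, ((IsLocalization.Away.algebraMap_isUnit (S := L g) g).pow k).mul_left_injective ?_⟩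
    refine ((IsLocalization.Away.algebraMap_isUnit (S := L g) g).pow M).mul_left_injective ?_
    show α h ^ (N + j * k) * z * α g ^ k * α g ^ M = 0 * α g ^ k * α g ^ M
    rw [zero_mul, zero_mul, show α h ^ (N + j * k) * z * α g ^ k * α g ^ M = α h ^ (N + j * k) * α g ^ k * (z * α (g ^ M)) by
      rw [map_pow]; ring, hb, ← map_pow, ← map_pow, ← map_mul, ← map_mul,
      show h ^ (N + j * k) * g ^ k * b = h ^ N * ((g * h ^ j) ^ k * b) by rw [mul_pow, ← pow_mul, pow_add]; ring,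
      hN, map_zero]
  have key : ∀ y ∈ (ext K).map (up ψ hu), ∀ r : L g', ∃ (N : ℕ) (z : L g), z ∈ ext K ∧
      up ψ hu z = r * y * α' (ψ h) ^ N := by
    intro y hy
    induction hy using Submodule.span_induction with
    | mem y hy =>
      obtain ⟨z, hz, rfl⟩ := hy
      intro r
      obtain ⟨N, w, hw⟩ := surj r
      exact ⟨N, w * z, Ideal.mul_mem_left _ _ hz, by rw [map_mul, hw]; ring⟩
    | zero => intro r; exact ⟨0, 0, zero_mem _, by simp⟩
    | add y y' _ _ hy hy' =>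
      intro r
      obtain ⟨N, z, hz, e⟩ := hy r
      obtain ⟨M, z', hz', e'⟩ := hy' r
      refine ⟨N + M, α h ^ M * z + α h ^ N * z', add_mem (Ideal.mul_mem_left _ _ hz) (Ideal.mul_mem_left _ _ hz'), ?_⟩
      rw [map_add, map_mul, map_mul, map_pow, map_pow, hα, e, e', pow_add]
      ring
    | smul s y _ hy =>
      intro r
      rw [smul_eq_mul, ← mul_assoc]
      exact hy _
  rw [mem_sat_iff, ext_map hu φ₀ hcompat] at ha
  obtain ⟨N, z, hz, hze⟩ := key _ ha 1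
  rw [one_mul] at hze
  obtain ⟨M, hM⟩ := inj (z - α (h ^ N * a)) (by
    rw [map_sub, hze, hα, map_mul, map_pow, map_mul, map_pow]; ring)
  refine ⟨M + N, ?_⟩
  rw [mem_sat_iff, show α (h ^ (M + N) * a) = α h ^ M * z by
    rw [mul_sub, sub_eq_zero] at hM
    rw [hM, map_mul, map_mul, map_pow, map_pow, pow_add, mul_assoc]]
  exact Ideal.mul_mem_left _ _ hz

theorem compat_of_mk {e : ℕ} (hg : g ∈ 𝒜 e)
    (h : ∀ (l : ℕ) (a : A) (ha : a ∈ 𝒜 (l • e)),
      (φ₀ (Away.mk 𝒜 hg l a ha)).val * algebraMap A' (L g') (ψ g) ^ l = algebraMap A' (L g') (ψ a)) (y : Away 𝒜 g) :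
    (φ₀ y).val = up ψ hu y.val := by
  obtain ⟨l, a, ha, rfl⟩ := Away.mk_surjective 𝒜 hg y
  refine ((hu.pow l).mul_left_inj).1 ((h l a ha).trans ?_)
  rw [Away.val_mk, Localization.mk_eq_mk', ← map_pow, ← map_pow, ← up_algebraMap ψ hu, ← up_algebraMap ψ hu, ← map_mul]
  exact congrArg _ (IsLocalization.mk'_spec (L g) a (⟨g ^ l, l, rfl⟩ : Submonoid.powers g)).symm

end up

section data

variable {S P : Scheme.{u}} {𝒜 : RelProj.QCGrAlg S} {p : P ⟶ S}
  {chart : ∀ (U : S.Opens) (hU : IsAffineOpen U), (((p ⁻¹ᵁ U : P.Opens) : Scheme.{u}) ≅ Proj (𝒜.deg U hU))}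
  (hP : RelProj.IsRelProj 𝒜 p chart) (I : P.IdealSheafData)

variable (chart) in
/-- The standard chart. -/
def eps (U : S.Opens) (hU : IsAffineOpen U) {d : ℕ} (hd : 0 < d) {f : 𝒜.presheaf.obj (op U)}
    (hf : f ∈ 𝒜.deg U hU d) : Spec (CommRingCat.of (Away (𝒜.deg U hU) f)) ⟶ P :=
  Proj.awayι (𝒜.deg U hU) f hf hd ≫ RelProj.emb p chart U hU

variable (chart) in
/-- The ideal on a standard chart. -/
def kid (U : S.Opens) (hU : IsAffineOpen U) {d : ℕ} (hd : 0 < d) {f : 𝒜.presheaf.obj (op U)}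
    (hf : f ∈ 𝒜.deg U hU d) : Ideal (Away (𝒜.deg U hU) f) :=
  ideal1 I (eps chart U hU hd hf)

theorem mul_facts {U : S.Opens} (hU : IsAffineOpen U) {d c : ℕ} (hd : 0 < d) {f t x : 𝒜.presheaf.obj (op U)}
    (hf : f ∈ 𝒜.deg U hU d) (ht : t ∈ 𝒜.deg U hU c) (hx : x = f * t) (hxm : x ∈ 𝒜.deg U hU (d + c))
    (hdc : 0 < d + c) :
    ∃ hu : IsUnit (algebraMap _ (L x) (RingHom.id _ f)),
      (∀ y, (awayMap (𝒜.deg U hU) ht hx y).val = up (RingHom.id _) hu y.val) ∧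
      kid chart I U hU hdc hxm = (kid chart I U hU hd hf).map (awayMap (𝒜.deg U hU) ht hx) := by
  have hu : IsUnit (algebraMap _ (L x) (RingHom.id _ f)) := by
    refine isUnit_of_mul_isUnit_left (y := algebraMap _ (L x) t) ?_
    rw [RingHom.id_apply, ← map_mul, ← hx]
    exact IsLocalization.Away.algebraMap_isUnit x
  refine ⟨hu, compat_of_mk hu _ hf fun l a ha => ?_, ?_⟩
  · rw [awayMap_mk, Away.val_mk, Localization.mk_eq_mk', RingHom.id_apply, RingHom.id_apply]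
    refine (((IsLocalization.Away.algebraMap_isUnit (S := L x) x).pow l).mul_left_inj).1 ?_
    rw [mul_right_comm, ← map_pow, IsLocalization.mk'_spec (L x) (a * t ^ l) (⟨x ^ l, l, rfl⟩ : Submonoid.powers x)]
    rw [← map_mul, ← map_pow, ← map_mul, hx, mul_pow]
    congr 1
    ring
  · rw [show (kid chart I U hU hd hf).map (awayMap (𝒜.deg U hU) ht hx) =
      (ideal1 I (eps chart U hU hd hf)).map (CommRingCat.ofHom (awayMap (𝒜.deg U hU) ht hx)).hom from rfl,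
      ← ideal1_comp, kid]
    congr 1
    rw [eps, eps, ← Category.assoc, Proj.SpecMap_awayMap_awayι]

include hP in
theorem res_facts {U : S.Opens} (hU : IsAffineOpen U) (r : Γ(S, U)) {d : ℕ} (hd : 0 < d)
    {f : 𝒜.presheaf.obj (op U)} (hf : f ∈ 𝒜.deg U hU d) :
    let ρ := 𝒜.res hU (hU.basicOpen r) (S.basicOpen_le r)
    ∃ hu : IsUnit (algebraMap _ (L (ρ f)) ((𝒜.presheaf.map (homOfLE (S.basicOpen_le r)).op).hom f)),
      (∀ y, (Away.map ρ f y).val = up (𝒜.presheaf.map (homOfLE (S.basicOpen_le r)).op).hom hu y.val) ∧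
      kid chart I (S.basicOpen r) (hU.basicOpen r) hd (ρ.map_mem hf) =
        (kid chart I U hU hd hf).map (Away.map ρ f) := by
  intro ρ
  have hu : IsUnit (algebraMap _ (L (ρ f)) ((𝒜.presheaf.map (homOfLE (S.basicOpen_le r)).op).hom f)) :=
    IsLocalization.Away.algebraMap_isUnit (ρ f)
  refine ⟨hu, compat_of_mk hu _ hf fun l a ha => ?_, ?_⟩
  · rw [Away.map_mk ρ f hf, Away.val_mk, Localization.mk_eq_mk']
    refine Eq.trans (congrArg (_ * ·) (map_pow _ _ l).symm) ?_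
    exact IsLocalization.mk'_spec (L (ρ f)) (ρ a) (⟨ρ f ^ l, l, rfl⟩ : Submonoid.powers (ρ f))
  · rw [show ((kid chart I U hU hd hf).map (Away.map ρ f)) =
      (ideal1 I (eps chart U hU hd hf)).map (CommRingCat.ofHom (Away.map ρ f)).hom from rfl, ← ideal1_comp, kid]
    congr 1
    rw [eps, eps, ← Category.assoc, ← Proj.awayι_comp_map ρ (𝒜.irrelevant_le_map U hU r) hd f hf, Category.assoc,
      RelProj.map_res_emb hP U hU r]
    rfl

variable (chart) in
/-- The ideal over an affine open. -/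
def idealAt (U : S.Opens) (hU : IsAffineOpen U) : Ideal (𝒜.presheaf.obj (op U)) :=
  ⨅ (d : ℕ) (hd : 0 < d) (f : 𝒜.presheaf.obj (op U)) (hf : f ∈ 𝒜.deg U hU d), sat (kid chart I U hU hd hf)

theorem mem_idealAt {U : S.Opens} {hU : IsAffineOpen U} {a : 𝒜.presheaf.obj (op U)} :
    a ∈ idealAt chart I U hU ↔ ∀ (d : ℕ) (hd : 0 < d) (f : 𝒜.presheaf.obj (op U)) (hf : f ∈ 𝒜.deg U hU d),
      a ∈ sat (kid chart I U hU hd hf) := by
  simp only [idealAt, Submodule.mem_iInf]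

/-- From two charts to their product and back. -/
theorem exists_pow_mem {U : S.Opens} {hU : IsAffineOpen U} {d c : ℕ} (hd : 0 < d) (hc : 0 < c)
    {f t : 𝒜.presheaf.obj (op U)} (hf : f ∈ 𝒜.deg U hU d) (ht : t ∈ 𝒜.deg U hU c) {a : 𝒜.presheaf.obj (op U)}
    (ha : a ∈ sat (kid chart I U hU hc ht)) : ∃ N : ℕ, t ^ N * a ∈ sat (kid chart I U hU hd hf) := by
  have hm : f * t ∈ 𝒜.deg U hU (d + c) := SetLike.mul_mem_graded hf ht
  have hm' : f * t ∈ 𝒜.deg U hU (c + d) := by rw [add_comm]; exact hm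
  obtain ⟨hu, hcompat, hK⟩ := mul_facts (chart := chart) I hU hd hf ht rfl hm (Nat.add_pos_left hd c)
  obtain ⟨hu', hcompat', hK'⟩ := mul_facts (chart := chart) I hU hc ht hf (mul_comm f t) hm' (Nat.add_pos_left hc d)
  have h1 := map_mem_sat hu' _ hcompat' ha
  rw [← hK'] at h1
  have h2 : ∀ (n m : ℕ) (_ : n = m) (hn : 0 < n) (hm : 0 < m) (h : f * t ∈ 𝒜.deg U hU n) (h' : f * t ∈ 𝒜.deg U hU m),
      kid chart I U hU hn h = kid chart I U hU hm h' := by
    rintro n m rfl hn hm h h'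
    rfl
  rw [← h2 (d + c) (c + d) (add_comm d c) (Nat.add_pos_left hd c) (Nat.add_pos_left hc d) hm hm', hK] at h1
  exact exists_pow_mem_sat hu _ hcompat t 1 (by rw [pow_one]; rfl) (fun a' => ⟨0, a', by simp⟩)
    (fun b hb => ⟨0, by simpa using hb⟩) (a := a) h1

/-- Membership is tested on any cover. -/
theorem mem_idealAt_of_cover {U : S.Opens} {hU : IsAffineOpen U} {ι : Type*} (c : ι → ℕ) (hc : ∀ i, 0 < c i)
    (t : ι → 𝒜.presheaf.obj (op U)) (ht : ∀ i, t i ∈ 𝒜.deg U hU (c i))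
    (hcov : ∀ x : Proj (𝒜.deg U hU), ∃ i, x ∈ Proj.basicOpen (𝒜.deg U hU) (t i))
    {a : 𝒜.presheaf.obj (op U)} (ha : ∀ i, a ∈ sat (kid chart I U hU (hc i) (ht i))) :
    a ∈ idealAt chart I U hU := by
  rw [mem_idealAt]
  intro d hd f hf
  rw [mem_sat_iff]
  refine Submodule.mem_of_span_eq_top_of_smul_pow_mem _ (Set.range fun i => algebraMap _ (L f) (t i))
    (span_eq_top t (fun i => ⟨c i, ht i⟩) hcov hf hd) _ ?_
  rintro ⟨_, i, rfl⟩
  obtain ⟨N, hN⟩ := exists_pow_mem (chart := chart) I hd (hc i) hf (ht i) (ha i)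
  refine ⟨N, ?_⟩
  rw [mem_sat_iff, map_mul, map_pow] at hN
  exact hN

variable [QuasiCompact p]

include chart in
theorem exists_finite_cover (U : S.Opens) (hU : IsAffineOpen U) :
    ∃ (n : ℕ) (c : Fin n → ℕ) (_ : ∀ i, 0 < c i) (t : Fin n → 𝒜.presheaf.obj (op U))
      (_ : ∀ i, t i ∈ 𝒜.deg U hU (c i)), ∀ x : Proj (𝒜.deg U hU), ∃ i, x ∈ Proj.basicOpen (𝒜.deg U hU) (t i) := by
  classical
  haveI : CompactSpace (p ⁻¹ᵁ U : P.Opens).toScheme :=
    isCompact_iff_compactSpace.1 (p.isCompact_preimage hU.isCompact)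
  haveI : CompactSpace (Proj (𝒜.deg U hU)) := (Scheme.Hom.homeomorph (chart U hU).hom).compactSpace
  obtain ⟨F, hF⟩ := isCompact_univ.elim_finite_subcover
    (fun k : Σ d : {d : ℕ // 0 < d}, 𝒜.deg U hU d.1 => (Proj.basicOpen (𝒜.deg U hU) k.2.1 : Set (Proj (𝒜.deg U hU))))
    (fun k => (Proj.basicOpen _ _).isOpen) fun x _ => by
      by_contra hn
      refine x.not_irrelevant_le ((HomogeneousIdeal.irrelevant_le _).2 fun d hd f hf => ?_)
      by_contra hf'
      exact hn (Set.mem_iUnion.2 ⟨⟨⟨d, hd⟩, f, hf⟩, hf'⟩)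
  refine ⟨F.card, fun i => (F.equivFin.symm i).1.1.1, fun i => (F.equivFin.symm i).1.1.2,
    fun i => (F.equivFin.symm i).1.2.1, fun i => (F.equivFin.symm i).1.2.2, fun x => ?_⟩
  obtain ⟨k, hk, hx⟩ := Set.mem_iUnion₂.1 (hF (Set.mem_univ x))
  refine ⟨F.equivFin ⟨k, hk⟩, ?_⟩
  show x ∈ Proj.basicOpen (𝒜.deg U hU) ((F.equivFin.symm (F.equivFin ⟨k, hk⟩)).1.2.1)
  exact (congrArg (fun q : {x // x ∈ F} => x ∈ Proj.basicOpen (𝒜.deg U hU) q.1.2.1)
    (F.equivFin.symm_apply_apply ⟨k, hk⟩)).mpr hx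

include hP in
theorem res_basic {U : S.Opens} (hU : IsAffineOpen U) (r : Γ(S, U)) {a : 𝒜.presheaf.obj (op U)}
    (ha : a ∈ idealAt chart I U hU) :
    (𝒜.presheaf.map (homOfLE (S.basicOpen_le r)).op).hom a ∈ idealAt chart I (S.basicOpen r) (hU.basicOpen r) := by
  obtain ⟨n, c, hc, t, ht, hcov⟩ := exists_finite_cover (chart := chart) U hU
  let ρ := 𝒜.res hU (hU.basicOpen r) (S.basicOpen_le r)
  refine mem_idealAt_of_cover I c hc (fun i => ρ (t i)) (fun i => ρ.map_mem (ht i)) (fun x => ?_) fun i => ?_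
  · obtain ⟨i, hi⟩ := hcov (Proj.map ρ (𝒜.irrelevant_le_map U hU r) x)
    exact ⟨i, by rw [← Proj.map_preimage_basicOpen ρ (𝒜.irrelevant_le_map U hU r)]; exact hi⟩
  · obtain ⟨hu, hcompat, hK⟩ := res_facts hP I hU r (hc i) (ht i)
    rw [hK]
    exact map_mem_sat hu _ hcompat ((mem_idealAt I).1 ha _ (hc i) _ (ht i))

include hP in
theorem loc_basic {U : S.Opens} (hU : IsAffineOpen U) (r : Γ(S, U)) {a : 𝒜.presheaf.obj (op U)}
    (ha : (𝒜.presheaf.map (homOfLE (S.basicOpen_le r)).op).hom a ∈ idealAt chart I (S.basicOpen r) (hU.basicOpen r)) :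
    ∃ N : ℕ, (𝒜.str.app (op U)).hom r ^ N * a ∈ idealAt chart I U hU := by
  classical
  obtain ⟨n, c, hc, t, ht, hcov⟩ := exists_finite_cover (chart := chart) U hU
  let ρ := (𝒜.presheaf.map (homOfLE (S.basicOpen_le r)).op).hom
  letI := ρ.toAlgebra
  haveI : IsLocalization.Away ((𝒜.str.app (op U)).hom r) (𝒜.presheaf.obj (op (S.basicOpen r))) := 𝒜.isQC U hU r
  have key : ∀ i, ∃ N : ℕ, (𝒜.str.app (op U)).hom r ^ N * a ∈ sat (kid chart I U hU (hc i) (ht i)) := fun i => by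
    obtain ⟨hu, hcompat, hK⟩ := res_facts hP I hU r (hc i) (ht i)
    have h1 := (mem_idealAt I).1 ha _ (hc i) _ ((𝒜.res hU (hU.basicOpen r) (S.basicOpen_le r)).map_mem (ht i))
    rw [hK] at h1
    refine exists_pow_mem_sat hu _ hcompat ((𝒜.str.app (op U)).hom r) 0 (by rw [pow_zero, mul_one]; rfl) ?_ ?_ h1
    · intro a'
      obtain ⟨N, b, hb⟩ := IsLocalization.Away.surj ((𝒜.str.app (op U)).hom r) a'
      exact ⟨N, b, hb.symm⟩
    · intro b hb
      obtain ⟨⟨_, N, rfl⟩, hN⟩ := (IsLocalization.map_eq_zero_iff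
        (Submonoid.powers ((𝒜.str.app (op U)).hom r)) (𝒜.presheaf.obj (op (S.basicOpen r))) b).1 hb
      exact ⟨N, hN⟩
  choose N hN using key
  refine ⟨Finset.univ.sup N, mem_idealAt_of_cover I c hc t ht hcov fun i => ?_⟩
  obtain ⟨k, hk⟩ := Nat.exists_eq_add_of_le (Finset.le_sup (f := N) (Finset.mem_univ i))
  rw [hk, pow_add, mul_comm (_ ^ N i), mul_assoc]
  exact Ideal.mul_mem_left _ _ (hN i)

variable (chart) in
/-- The homogeneous ideals as quotient data. -/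
theorem exists_idealData (hP : RelProj.IsRelProj 𝒜 p chart) :
    ∃ D : RelVALib.GrIdealData 𝒜, ∀ (U : S.Opens) (hU : IsAffineOpen U), D.J U hU = idealAt chart I U hU := by
  refine ⟨⟨idealAt chart I, fun U hU a ha n => (mem_idealAt I).2 fun d hd f hf =>
      sat_homog hf hd _ ((mem_idealAt I).1 ha d hd f hf) n, fun {U V} hU hV h a ha => ?_,
      fun U hU r a ha => loc_basic hP I hU r ha⟩, fun U hU => rfl⟩
  have hW : ∀ x : V, ∃ s : Γ(S, V), x.1 ∈ S.basicOpen s ∧ ∃ N : ℕ,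
      (𝒜.str.app (op V)).hom s ^ N * (𝒜.presheaf.map (homOfLE h).op).hom a ∈ idealAt chart I V hV := by
    intro x
    obtain ⟨W, hW, hxW, hWU, hWV, -, ⟨r, hr⟩, ⟨s, hs⟩⟩ := QProj.exists_common_basic hU hV ⊤ (h x.2) x.2 trivial
    subst hs
    refine ⟨s, hxW, loc_basic hP I hV s ?_⟩
    have h1 := res_basic hP I hU r ha
    have : ∀ (W₁ W₂ : S.Opens) (e : W₁ = W₂) (h₁ : IsAffineOpen W₁) (h₂ : IsAffineOpen W₂) (l₁ : W₁ ≤ U) (l₂ : W₂ ≤ U),
        (𝒜.presheaf.map (homOfLE l₁).op).hom a ∈ idealAt chart I W₁ h₁ →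
          (𝒜.presheaf.map (homOfLE l₂).op).hom a ∈ idealAt chart I W₂ h₂ := by
      rintro W₁ W₂ rfl _ _ _ _ hm; exact hm
    have h2 := this _ _ hr.symm (hU.basicOpen r) hW (S.basicOpen_le r) hWU h1
    rw [← ConcreteCategory.comp_apply, ← Functor.map_comp]
    exact h2
  choose s hs N hN using hW
  have hcov : ⨆ x : V, S.basicOpen (s x) = V :=
    le_antisymm (iSup_le fun x => S.basicOpen_le _) fun x hx => Opens.mem_iSup.2 ⟨⟨x, hx⟩, hs ⟨x, hx⟩⟩
  have hspan : Ideal.span (Set.range s) = ⊤ :=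
    (IsAffineOpen.iSup_basicOpen_eq_self_iff hV).1 (le_antisymm (iSup_le fun f => S.basicOpen_le _) fun x hx =>
      Opens.mem_iSup.2 ⟨⟨_, ⟨x, hx⟩, rfl⟩, hs ⟨x, hx⟩⟩)
  refine Submodule.mem_of_span_eq_top_of_smul_pow_mem _ (Set.range fun x => (𝒜.str.app (op V)).hom (s x)) ?_ _ ?_
  · rw [Set.range_comp' (𝒜.str.app (op V)).hom s, ← Ideal.map_span, hspan, Ideal.map_top]
  · rintro ⟨_, x, rfl⟩
    exact ⟨N x, hN x⟩

/-- Fractions in the chart ideal come from the homogeneous ideal. -/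
theorem exists_pow_mul_mem {U : S.Opens} (hU : IsAffineOpen U) {d : ℕ} (hd : 0 < d) {f : 𝒜.presheaf.obj (op U)}
    (hf : f ∈ 𝒜.deg U hU d) {a : 𝒜.presheaf.obj (op U)} (ha : a ∈ sat (kid chart I U hU hd hf)) :
    ∃ N : ℕ, f ^ N * a ∈ idealAt chart I U hU := by
  obtain ⟨n, c, hc, t, ht, hcov⟩ := exists_finite_cover (chart := chart) U hU
  choose N hN using fun i => exists_pow_mem (chart := chart) I (hc i) hd (ht i) hf ha
  refine ⟨Finset.univ.sup N, mem_idealAt_of_cover I c hc t ht hcov fun i => ?_⟩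
  obtain ⟨k, hk⟩ := Nat.exists_eq_add_of_le (Finset.le_sup (f := N) (Finset.mem_univ i))
  rw [hk, pow_add, mul_comm (_ ^ N i), mul_assoc]
  exact Ideal.mul_mem_left _ _ (hN i)

end data

end Groth.Agent.RPQ28
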