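import Groth.Agent.RPQ28.Main
import Groth.Agent.RelVALib.DegPiece
import Groth.Agent.Coherent.SubFTApps

/-!
# Closed subschemes of finite presentation of a relative Proj are cut out by a module of finite type
-/

set_option autoImplicit false
set_option linter.style.haveILetI false
set_option linter.unusedSectionVars false
set_option backward.isDefEq.respectTransparency.types false
set_option maxHeartbeats 1000000
set_option synthInstance.maxHeartbeats 400000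

universe u

open CategoryTheory CategoryTheory.Limits AlgebraicGeometry TopologicalSpace Opposite HomogeneousLocalization
open Groth.Agent.Coherent Groth.Agent.AssSch12
open scoped HomogeneousIdeal

noncomputable section

namespace Groth.Agent.RPQ28

theorem ideal1_fg {P Z : Scheme.{u}} (i : Z ⟶ P) [IsClosedImmersion i] [LocallyOfFinitePresentation i]
    {R : CommRingCat.{u}} (ε : Spec R ⟶ P) : (ideal1 i.ker ε).FG := by
  obtain ⟨haff, hsurj⟩ := IsClosedImmersion.isAffine_surjective_of_isAffine (pullback.fst ε i)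
  haveI := haff
  have hfp : (pullback.fst ε i).appTop.hom.FinitePresentation :=
    HasRingHomProperty.appTop (P := @LocallyOfFinitePresentation) _ inferInstance
  have hker : (RingHom.ker (pullback.fst ε i).appTop.hom).FG := by
    algebraize [(pullback.fst ε i).appTop.hom]
    exact Algebra.FinitePresentation.ker_fG_of_surjective (R := Γ(Spec R, ⊤))
      (Algebra.ofId Γ(Spec R, ⊤) Γ(pullback ε i, ⊤)) hsurj
  rw [ideal1, ← Scheme.IdealSheafData.ker_fst_of_isClosedImmersion, Scheme.Hom.ker_apply]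
  let e : Γ(Spec R, ⊤) ≃+* R := (Scheme.ΓSpecIso R).commRingCatIsoToRingEquiv
  exact (Ideal.map_comap_of_equiv (I := RingHom.ker (pullback.fst ε i).appTop.hom) e) ▸ hker.map (e : Γ(Spec R, ⊤) →+* R)

theorem ideal1_eq_top {P Z : Scheme.{u}} (i : Z ⟶ P) [IsClosedImmersion i] {R : CommRingCat.{u}} (ε : Spec R ⟶ P)
    (h : ∀ z, i z ∉ Set.range ε) : ideal1 i.ker ε = ⊤ := by
  have : IsEmpty (pullback ε i : Scheme.{u}) := ⟨fun z => h (pullback.snd ε i z) ⟨pullback.fst ε i z, by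
    rw [← Scheme.Hom.comp_apply, pullback.condition, Scheme.Hom.comp_apply]⟩⟩
  rw [ideal1, ← Scheme.IdealSheafData.ker_fst_of_isClosedImmersion,
    (Scheme.Hom.ker_eq_top_iff_isEmpty _).2 this]
  exact Ideal.comap_top

section ft

variable {S P Z : Scheme.{u}} [CompactSpace S] [QuasiSeparatedSpace S] (𝒜 : RelProj.QCGrAlg S)
  (p : P ⟶ S) (chart : ∀ (U : S.Opens) (hU : IsAffineOpen U), (((p ⁻¹ᵁ U : P.Opens) : Scheme.{u}) ≅ Proj (𝒜.deg U hU)))
  (hP : RelProj.IsRelProj 𝒜 p chart) [QuasiCompact p]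
  (i : Z ⟶ P) [IsClosedImmersion i]

/-- Seeds in one degree generate. -/
theorem exists_seeds [LocallyOfFinitePresentation i] :
    ∃ (κ : Type u) (_ : Finite κ) (Uk : κ → S.affineOpens) (dk : κ → ℕ) (hdk : ∀ k, 0 < dk k)
      (fk : ∀ k, 𝒜.presheaf.obj (op (Uk k).1)) (hfk : ∀ k, fk k ∈ 𝒜.deg (Uk k).1 (Uk k).2 (dk k))
      (_ : ∀ x : P, ∃ k, x ∈ QProj.nz chart (Uk k).1 (Uk k).2 (fk k))
      (d : ℕ) (_ : 0 < d) (J : Type u) (_ : Finite J) (W : J → S.affineOpens)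
      (s : ∀ j, 𝒜.presheaf.obj (op (W j).1)),
      (∀ j, s j ∈ 𝒜.deg (W j).1 (W j).2 d) ∧ (∀ j, s j ∈ idealAt chart i.ker (W j).1 (W j).2) ∧
      ∀ I : ∀ (U : S.Opens), IsAffineOpen U → Ideal (𝒜.presheaf.obj (op U)), (∀ j, s j ∈ I (W j).1 (W j).2) →
        ∀ k, ∃ G : Set (Away (𝒜.deg (Uk k).1 (Uk k).2) (fk k)),
          Ideal.span G = kid chart i.ker (Uk k).1 (Uk k).2 (hdk k) (hfk k) ∧
          ∀ x ∈ G, ∃ (l : ℕ) (a : _) (ha : a ∈ 𝒜.deg (Uk k).1 (Uk k).2 (l • dk k)) (n : ℕ),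
            x = Away.mk (𝒜.deg (Uk k).1 (Uk k).2) (hfk k) l a ha ∧ fk k ^ n * a ∈ I (Uk k).1 (Uk k).2 := by
  classical
  obtain ⟨T, hT, hTcov⟩ := isCompact_iff_finite_and_eq_biUnion_affineOpens.1
    (show IsCompact ((⊤ : S.Opens) : Set S) from isCompact_univ)
  have := hT.to_subtype
  choose nn c hc t ht hcov using fun U : T => exists_finite_cover (chart := chart) U.1.1 U.1.2
  let κ := Σ U : T, Fin (nn U)
  let Uk : κ → S.affineOpens := fun k => k.1.1
  let dk : κ → ℕ := fun k => c k.1 k.2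
  let fk : ∀ k : κ, 𝒜.presheaf.obj (op (Uk k).1) := fun k => t k.1 k.2
  have hdk : ∀ k, 0 < dk k := fun k => hc k.1 k.2
  have hfk : ∀ k, fk k ∈ 𝒜.deg (Uk k).1 (Uk k).2 (dk k) := fun k => ht k.1 k.2
  have := Fintype.ofFinite κ
  have hPcov : ∀ x : P, ∃ k : κ, x ∈ QProj.nz chart (Uk k).1 (Uk k).2 (fk k) := fun x => by
    have h1 := hTcov.le (Opens.mem_top (p x))
    simp only [Opens.mem_iSup] at h1
    obtain ⟨U, hUT, hxU⟩ := h1
    obtain ⟨j, hj⟩ := hcov ⟨U, hUT⟩ ((chart U.1 U.2).hom ⟨x, hxU⟩)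
    refine ⟨⟨⟨U, hUT⟩, j⟩, (chart U.1 U.2).hom ⟨x, hxU⟩, hj, ?_⟩
    show ((chart U.1 U.2).hom ≫ (chart U.1 U.2).inv ≫ (p ⁻¹ᵁ U.1).ι) ⟨x, hxU⟩ = x
    rw [Iso.hom_inv_id_assoc]
    rfl
  have hFG : ∀ k : κ, (kid chart i.ker (Uk k).1 (Uk k).2 (hdk k) (hfk k)).FG := fun k => ideal1_fg i _
  choose G hG using hFG
  let J := Σ k : κ, {x // x ∈ G k}
  choose l a ha hla using fun j : J => Away.mk_surjective (𝒜.deg (Uk j.1).1 (Uk j.1).2) (hfk j.1) j.2.1
  have hsat : ∀ j : J, a j ∈ sat (kid chart i.ker (Uk j.1).1 (Uk j.1).2 (hdk j.1) (hfk j.1)) := fun j => by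
    refine (mk_mem_iff (hfk j.1) (hdk j.1) _ (l j) (a j) (ha j)).1 ?_
    rw [hla, ← hG]
    exact Ideal.subset_span j.2.2
  choose N hN using fun j : J => exists_pow_mul_mem (chart := chart) i.ker (Uk j.1).2 (hdk j.1) (hfk j.1) (hsat j)
  let m := (Finset.univ.sup fun j : J => N j + l j) + 1
  let d := (∏ k : κ, dk k) * m
  have hd : 0 < d := Nat.mul_pos (Finset.prod_pos fun k _ => hdk k) (Nat.succ_pos _)
  have hq : ∀ j : J, ∃ n, N j ≤ n ∧ n • dk j.1 + l j • dk j.1 = d := fun j => by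
    obtain ⟨r, hr⟩ := Finset.dvd_prod_of_mem dk (Finset.mem_univ j.1)
    have hr0 : 0 < r := Nat.pos_of_ne_zero fun h0 => by
      have := Finset.prod_pos (s := Finset.univ) fun k (_ : k ∈ Finset.univ) => hdk k
      rw [hr, h0] at this
      simp at this
    have h1 : N j + l j ≤ r * m := le_trans (Nat.le_succ_of_le
      (Finset.le_sup (f := fun j : J => N j + l j) (Finset.mem_univ j))) (Nat.le_mul_of_pos_left m hr0)
    refine ⟨r * m - l j, by omega, ?_⟩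
    rw [smul_eq_mul, smul_eq_mul, ← Nat.add_mul, Nat.sub_add_cancel (by omega)]
    show _ = (∏ k : κ, dk k) * m
    rw [hr]
    ring
  choose n hNn hn using hq
  refine ⟨κ, inferInstance, Uk, dk, hdk, fk, hfk, hPcov, d, hd, J, inferInstance, fun j => Uk j.1,
    fun j => fk j.1 ^ n j * a j, fun j => ?_, fun j => ?_, fun I hI k => ⟨_, hG k, fun x hx => ?_⟩⟩
  · rw [← hn j]
    exact SetLike.mul_mem_graded (SetLike.pow_mem_graded _ (hfk j.1)) (ha j)
  · obtain ⟨r, hr⟩ := Nat.exists_eq_add_of_le (hNn j)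
    show fk j.1 ^ n j * a j ∈ _
    rw [hr, pow_add, mul_comm (_ ^ N j), mul_assoc]
    exact Ideal.mul_mem_left _ _ (hN j)
  · exact ⟨l ⟨k, x, hx⟩, a ⟨k, x, hx⟩, ha ⟨k, x, hx⟩, n ⟨k, x, hx⟩, (hla ⟨k, x, hx⟩).symm, hI ⟨k, x, hx⟩⟩

include hP in
/-- The module cutting out the closed subscheme. -/
theorem exists_of_seeds {κ : Type u} (Uk : κ → S.affineOpens) (dk : κ → ℕ) (hdk : ∀ k, 0 < dk k)
    (fk : ∀ k, 𝒜.presheaf.obj (op (Uk k).1)) (hfk : ∀ k, fk k ∈ 𝒜.deg (Uk k).1 (Uk k).2 (dk k))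
    (hcov : ∀ x : P, ∃ k, x ∈ QProj.nz chart (Uk k).1 (Uk k).2 (fk k))
    (d : ℕ) {J : Type u} [Finite J] (W : J → S.affineOpens) (s : ∀ j, 𝒜.presheaf.obj (op (W j).1))
    (hs : ∀ j, s j ∈ 𝒜.deg (W j).1 (W j).2 d) (hsI : ∀ j, s j ∈ idealAt chart i.ker (W j).1 (W j).2)
    (hgen : ∀ I : ∀ (U : S.Opens), IsAffineOpen U → Ideal (𝒜.presheaf.obj (op U)), (∀ j, s j ∈ I (W j).1 (W j).2) →
        ∀ k, ∃ G : Set (Away (𝒜.deg (Uk k).1 (Uk k).2) (fk k)),
          Ideal.span G = kid chart i.ker (Uk k).1 (Uk k).2 (hdk k) (hfk k) ∧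
          ∀ x ∈ G, ∃ (l : ℕ) (a : _) (ha : a ∈ 𝒜.deg (Uk k).1 (Uk k).2 (l • dk k)) (n : ℕ),
            x = Away.mk (𝒜.deg (Uk k).1 (Uk k).2) (hfk k) l a ha ∧ fk k ^ n * a ∈ I (Uk k).1 (Uk k).2) :
    ∃ (F : S.Modules) (_ : Coh.IsQCoh F) (_ : CohB1.IsFT F) (ι : F ⟶ 𝒜.toModule)
      (_ : ∀ (U : S.Opens) (hU : IsAffineOpen U) (x : Γ(F, U)), (ι.app U) x ∈ 𝒜.deg U hU d)
      (ℬ : RelProj.QCGrAlg S) (φ : 𝒜.toQCAlg ⟶ ℬ.toQCAlg) (hφ : RelProj.IsGradedHom φ) (PB : Scheme.{u})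
      (pB : PB ⟶ S) (chartB : ∀ (U : S.Opens) (hU : IsAffineOpen U), (((pB ⁻¹ᵁ U : PB.Opens) : Scheme.{u}) ≅ Proj (ℬ.deg U hU)))
      (h : PB ⟶ P) (e : PB ≅ Z),
      ((∀ (U : S.Opens), IsAffineOpen U → Function.Surjective (φ.hom.app (op U)).hom ∧
          RingHom.ker (φ.hom.app (op U)).hom = (Ideal.span (Set.range (ι.app U)) : Ideal (𝒜.presheaf.obj (op U)))) ∧
        RelProj.IsRelProj ℬ pB chartB ∧ RelProj.IsProjQMap (RelProj.QGrHom.ofHom φ hφ) p chart pB chartB h ∧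
        e.hom ≫ i = h) ∧
      (∀ j, ∃ x : Γ(F, (W j).1), (show 𝒜.presheaf.obj (op (W j).1) from ι.app _ x) = s j) ∧
      ∀ (U : S.Opens) (hU : IsAffineOpen U) (b : 𝒜.presheaf.obj (op U)), b ∈ 𝒜.deg U hU d →
        b ∈ idealAt chart i.ker U hU →
        (∀ y ∈ U, ∃ (V : S.Opens) (hV : V ≤ U), y ∈ V ∧ ∃ x : Γ(F, V),
          (show 𝒜.presheaf.obj (op V) from ι.app V x) = 𝒜.presheaf.map (homOfLE hV).op b) →
        ∃ x : Γ(F, U), (show 𝒜.presheaf.obj (op U) from ι.app U x) = b := by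
  classical
  obtain ⟨D₀, hD₀⟩ := exists_idealData chart i.ker hP
  obtain ⟨ℬ₀, π, -, hπ⟩ := RelVALib.exists_quotient D₀
  obtain ⟨M, ιM, hM, hMinj, hMdeg⟩ := RelVALib.exists_degPiece 𝒜 d
  haveI := hM
  haveI : Coh.IsQCoh ℬ₀.toModule := Coherent.isQCoh_toModule ℬ₀.toQCAlg
  haveI : Coh.IsQCoh 𝒜.toModule := Coherent.isQCoh_toModule 𝒜.toQCAlg
  let q : M ⟶ ℬ₀.toModule := ιM ≫ RelSpec.QCAlg.Hom.toModuleMap π
  let G : S.Modules := kernel q
  haveI : Coh.IsQCoh G := isQCoh_kernel q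
  let j : G ⟶ 𝒜.toModule := kernel.ι q ≫ ιM
  have hj : ∀ U : S.Opens, Function.Injective (j.app U) := fun U =>
    (hMinj U).comp (app_injective_of_mono (kernel.ι q) U)
  have hjmem : ∀ (U : S.Opens) (hU : IsAffineOpen U) (g : Γ(G, U)),
      (show 𝒜.presheaf.obj (op U) from j.app U g) ∈ 𝒜.deg U hU d ∧
      (show 𝒜.presheaf.obj (op U) from j.app U g) ∈ idealAt chart i.ker U hU := fun U hU g => by
    refine ⟨(hMdeg U hU).1 _, ?_⟩
    rw [← hD₀]
    exact ((hπ U hU).2.1 _).1 (kernel_ι_app_zero q U g)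
  have hjsurj : ∀ (U : S.Opens) (hU : IsAffineOpen U) (b : 𝒜.presheaf.obj (op U)), b ∈ 𝒜.deg U hU d →
      b ∈ idealAt chart i.ker U hU → ∃ g : Γ(G, U), (show 𝒜.presheaf.obj (op U) from j.app U g) = b :=
    fun U hU b hb hbI => by
      obtain ⟨x, hx⟩ := (hMdeg U hU).2 b hb
      obtain ⟨g, hg⟩ := kernel_sections_exact q x (by
        show π.hom.app (op U) (show 𝒜.presheaf.obj (op U) from ιM.app U x) = 0
        rw [hx]
        exact ((hπ U hU).2.1 _).2 (hD₀ U hU ▸ hbI))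
      refine ⟨g, ?_⟩
      show (show 𝒜.presheaf.obj (op U) from ιM.app U ((kernel.ι q).app U g)) = b
      rw [hg]
      exact hx
  choose g hg using fun k => hjsurj _ (W k).2 (s k) (hs k) (hsI k)
  choose Qk hQk hgQ using fun k : J => exists_good_containing_qcqs (F := G) (W k).2.isCompact
    (fun _ : PUnit.{u+1} => g k)
  let Q := SubM.sum Qk
  have hQ : Q.Good ⊤ := SubM.good_sum Qk hQk
  let F : S.Modules := Q.toMod
  haveI hF : Coh.IsQCoh F := SubM.isQCoh hQ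
  let ι : F ⟶ 𝒜.toModule := Q.toι ≫ j
  let J' : ∀ U : S.Opens, IsAffineOpen U → Ideal (𝒜.presheaf.obj (op U)) := fun U _ =>
    Ideal.span (Set.range fun x : Γ(F, U) => (show 𝒜.presheaf.obj (op U) from ι.app U x))
  have hnat : ∀ {U V : S.Opens} (h : V ≤ U) (x : Γ(F, U)),
      𝒜.presheaf.map (homOfLE h).op (show 𝒜.presheaf.obj (op U) from ι.app U x) =
        (show 𝒜.presheaf.obj (op V) from ι.app V (resM F h x)) := fun h x => (app_resM ι h x).symm
  let D : RelVALib.GrIdealData 𝒜 :=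
    { J := J'
      homog := fun U hU a ha n => Ideal.homogeneous_span (𝒜.deg U hU) _ (by
        rintro _ ⟨x, rfl⟩
        exact ⟨d, (hjmem U hU _).1⟩) n ha
      res := fun {U V} hU hV h a ha => by
        refine (Ideal.span_le (I := (J' V hV).comap (𝒜.presheaf.map (homOfLE h).op).hom)).2 ?_ ha
        rintro _ ⟨x, rfl⟩
        exact Ideal.subset_span ⟨resM F h x, (hnat h x).symm⟩
      loc := fun U hU r a ha => by
        let ρ := (𝒜.presheaf.map (homOfLE (S.basicOpen_le r)).op).hom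
        letI := ρ.toAlgebra
        haveI : IsLocalization.Away ((𝒜.str.app (op U)).hom r) (𝒜.presheaf.obj (op (S.basicOpen r))) := 𝒜.isQC U hU r
        have hle : J' (S.basicOpen r) (hU.basicOpen r) ≤ (J' U hU).map ρ := by
          refine Ideal.span_le.2 ?_
          rintro _ ⟨x, rfl⟩
          obtain ⟨N, t, ht⟩ := qcoh_exists_pow_smul hU F r x
          have h1 : ρ (show 𝒜.presheaf.obj (op U) from ι.app U t) =
              ρ ((𝒜.str.app (op U)).hom (r ^ N)) * (show 𝒜.presheaf.obj (op (S.basicOpen r)) from ι.app _ x) := by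
            refine (hnat (S.basicOpen_le r) t).trans ?_
            rw [ht, Scheme.Modules.Hom.app_smul]
            exact congrArg (fun z : 𝒜.presheaf.obj (op (S.basicOpen r)) => z * (show 𝒜.presheaf.obj (op (S.basicOpen r)) from ι.app _ x))
              (algRes_str 𝒜.toQCAlg (S.basicOpen_le r) (r ^ N)).symm
          obtain ⟨v, hv⟩ := ((IsLocalization.Away.algebraMap_isUnit (S := 𝒜.presheaf.obj (op (S.basicOpen r)))
            ((𝒜.str.app (op U)).hom r)).pow N).exists_left_inv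
          change v * ρ ((𝒜.str.app (op U)).hom r) ^ N = 1 at hv
          rw [map_pow, map_pow] at h1
          have h2 := congrArg (v * ·) h1
          simp only [← mul_assoc, hv, one_mul] at h2
          show (show 𝒜.presheaf.obj (op (S.basicOpen r)) from ι.app _ x) ∈ (J' U hU).map ρ
          rw [← h2]
          exact Ideal.mul_mem_left _ _ (Ideal.mem_map_of_mem ρ (Ideal.subset_span ⟨t, rfl⟩))
        obtain ⟨_, ⟨N, rfl⟩, hN⟩ := (IsLocalization.algebraMap_mem_map_algebraMap_iff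
          (Submonoid.powers ((𝒜.str.app (op U)).hom r)) (𝒜.presheaf.obj (op (S.basicOpen r))) (J' U hU) a).1 (hle ha)
        exact ⟨N, hN⟩ }
  have hDle : ∀ (U : S.Opens) (hU : IsAffineOpen U), D.J U hU ≤ idealAt chart i.ker U hU := fun U hU =>
    Ideal.span_le.2 (by rintro _ ⟨x, rfl⟩; exact (hjmem U hU _).2)
  have hseed : ∀ k, ∃ x : Γ(F, (W k).1), (show 𝒜.presheaf.obj (op (W k).1) from ι.app _ x) = s k := fun k =>
    ⟨⟨g k, SubM.le_sum Qk k _ (hgQ k PUnit.unit)⟩, hg k⟩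
  obtain ⟨ℬ, φ, hφ, PB, pB, chartB, h, e, h1, h2, h3, h4⟩ := exists_iso_of_data 𝒜 p chart hP i D hDle Uk dk hdk fk hfk
    hcov (hgen D.J fun k => Ideal.subset_span (hseed k))
  refine ⟨F, hF, SubM.isFT hQ, ι, fun U hU x => (hjmem U hU _).1, ℬ, φ, hφ, PB, pB, chartB, h, e,
    ⟨fun U hU => ⟨(h1 U hU).1, ?_⟩, h2, h3, h4⟩, hseed, fun U hU b hb hbI hloc => ?_⟩
  · ext b
    rw [RingHom.mem_ker]
    exact (h1 U hU).2 b
  · obtain ⟨g₀, hg₀⟩ := hjsurj U hU b hb hbI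
    refine ⟨⟨g₀, Q.of_local g₀ fun y hy => ?_⟩, hg₀⟩
    obtain ⟨V, hV, hyV, x, hx⟩ := hloc y hy
    refine ⟨V, hV, hyV, ?_⟩
    have : resM G hV g₀ = Q.toι.app V x := hj V (by
      refine (app_resM j hV g₀).trans ?_
      exact (congrArg (𝒜.presheaf.map (homOfLE hV).op) hg₀).trans hx.symm)
    rw [this]
    exact x.2

end ft

end Groth.Agent.RPQ28
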