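import Groth.Agent.RPQ28.Data
import Groth.Agent.ProjLib.QMapHom
import Groth.Agent.ProjLib.RelProjExist
import Groth.Agent.ProjLib.MapLocal
import Groth.Agent.S12139
import Groth.Agent.S12165

/-!
# Closed subschemes of a relative Proj are relative Proj's of graded quotients
-/

set_option autoImplicit false
set_option linter.style.haveILetI false
set_option linter.unusedSectionVars false
set_option backward.isDefEq.respectTransparency.types false
set_option maxHeartbeats 1000000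
set_option synthInstance.maxHeartbeats 400000

universe u

open CategoryTheory CategoryTheory.Limits AlgebraicGeometry TopologicalSpace Opposite HomogeneousLocalization
open scoped HomogeneousIdeal

noncomputable section

namespace Groth.Agent.RPQ28

theorem ideal_eq_of_ideal1_eq {P : Scheme.{u}} {R : CommRingCat.{u}} (ε : Spec R ⟶ P) [IsOpenImmersion ε]
    {I J : P.IdealSheafData} (h : ideal1 I ε = ideal1 J ε) :
    I.ideal ⟨ε.opensRange, isAffineOpen_opensRange ε⟩ = J.ideal ⟨ε.opensRange, isAffineOpen_opensRange ε⟩ := by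
  have hR := ConcreteCategory.bijective_of_isIso (Scheme.ΓSpecIso R).inv
  have h1 : (I.comap ε).ideal ⟨⊤, isAffineOpen_top _⟩ = (J.comap ε).ideal ⟨⊤, isAffineOpen_top _⟩ :=
    Ideal.comap_injective_of_surjective _ hR.2 h
  rw [Scheme.IdealSheafData.ideal_comap_of_isOpenImmersion, Scheme.IdealSheafData.ideal_comap_of_isOpenImmersion] at h1
  have h2 := Ideal.comap_injective_of_surjective _ (ConcreteCategory.bijective_of_isIso (ε.appIso ⊤).inv).2 h1
  have hW : (⟨ε ''ᵁ ⊤, (isAffineOpen_top _).image_of_isOpenImmersion ε⟩ : P.affineOpens) =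
      ⟨ε.opensRange, isAffineOpen_opensRange ε⟩ := Subtype.ext (ε.image_top_eq_opensRange)
  rw [← hW]
  exact h2

theorem ideal1_ker_spec {R R' : CommRingCat.{u}} (m : R ⟶ R') :
    ((Spec.map m).ker.ideal ⟨⊤, isAffineOpen_top _⟩).comap (Scheme.ΓSpecIso R).inv.hom = RingHom.ker m.hom := by
  rw [Scheme.Hom.ker_apply, RingHom.comap_ker]
  have h : ((Spec.map m).app ⊤).hom.comp (Scheme.ΓSpecIso R).inv.hom = (Scheme.ΓSpecIso R').inv.hom.comp m.hom := by
    rw [← CommRingCat.hom_comp, ← CommRingCat.hom_comp, Scheme.ΓSpecIso_inv_naturality]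
    rfl
  exact (congrArg RingHom.ker h).trans
    (RingHom.ker_comp_of_injective _ (ConcreteCategory.bijective_of_isIso (Scheme.ΓSpecIso R').inv).1)

theorem exists_iso_of_data {S P Z : Scheme.{u}} (𝒜 : RelProj.QCGrAlg S)
    (p : P ⟶ S) (chart : ∀ (U : S.Opens) (hU : IsAffineOpen U), (((p ⁻¹ᵁ U : P.Opens) : Scheme.{u}) ≅ Proj (𝒜.deg U hU)))
    (hP : RelProj.IsRelProj 𝒜 p chart) (i : Z ⟶ P) [IsClosedImmersion i]
    (D : RelVALib.GrIdealData 𝒜) (hle : ∀ (U : S.Opens) (hU : IsAffineOpen U), D.J U hU ≤ idealAt chart i.ker U hU)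
    {κ : Type*} (Uk : κ → S.affineOpens) (dk : κ → ℕ) (hdk : ∀ k, 0 < dk k)
    (fk : ∀ k, 𝒜.presheaf.obj (op (Uk k).1)) (hfk : ∀ k, fk k ∈ 𝒜.deg (Uk k).1 (Uk k).2 (dk k))
    (hcov : ∀ x : P, ∃ k, x ∈ QProj.nz chart (Uk k).1 (Uk k).2 (fk k))
    (hgen : ∀ k, ∃ G : Set (Away (𝒜.deg (Uk k).1 (Uk k).2) (fk k)),
      Ideal.span G = kid chart i.ker (Uk k).1 (Uk k).2 (hdk k) (hfk k) ∧
      ∀ x ∈ G, ∃ (l : ℕ) (a : _) (ha : a ∈ 𝒜.deg (Uk k).1 (Uk k).2 (l • dk k)) (n : ℕ),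
        x = Away.mk (𝒜.deg (Uk k).1 (Uk k).2) (hfk k) l a ha ∧ fk k ^ n * a ∈ D.J (Uk k).1 (Uk k).2) :
    ∃ (ℬ : RelProj.QCGrAlg S) (φ : 𝒜.toQCAlg ⟶ ℬ.toQCAlg) (hφ : RelProj.IsGradedHom φ) (PB : Scheme.{u})
      (pB : PB ⟶ S) (chartB : ∀ (U : S.Opens) (hU : IsAffineOpen U), (((pB ⁻¹ᵁ U : PB.Opens) : Scheme.{u}) ≅ Proj (ℬ.deg U hU)))
      (h : PB ⟶ P) (e : PB ≅ Z),
      (∀ (U : S.Opens) (hU : IsAffineOpen U), Function.Surjective (φ.hom.app (op U)).hom ∧
          ∀ a, φ.hom.app (op U) a = 0 ↔ a ∈ D.J U hU) ∧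
        RelProj.IsRelProj ℬ pB chartB ∧ RelProj.IsProjQMap (RelProj.QGrHom.ofHom φ hφ) p chart pB chartB h ∧
        e.hom ≫ i = h := by
  classical
  obtain ⟨ℬ, π, hπ, hπU⟩ := RelVALib.exists_quotient D
  obtain ⟨PB, pB, chartB, hB⟩ := ProjLib.exists_isRelProj ℬ
  obtain ⟨htop, hclosed⟩ := Groth.Agent.S12165.result 𝒜 ℬ π hπ
    ⟨0, fun k _ U hU y hy => (hπU U hU).2.2 k y hy⟩ p chart hP pB chartB hB
  let w := RelProj.QGrHom.ofHom π hπ
  obtain ⟨⟨v, hv, -⟩, -⟩ := Groth.Agent.S12139.result (𝟙 S) 𝒜 ℬ w p chart hP pB chartB hB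
  have hs : Surjective (RelProj.domQ w pB chartB).ι := ⟨fun z => ⟨⟨z, htop.ge (Set.mem_univ z)⟩, rfl⟩⟩
  haveI : IsIso (RelProj.domQ w pB chartB).ι := (isIso_iff_isOpenImmersion_and_surjective _).2 ⟨inferInstance, hs⟩
  let h : PB ⟶ P := inv (RelProj.domQ w pB chartB).ι ≫ v
  have hh : RelProj.IsProjQMap w p chart pB chartB h := by
    refine ⟨htop, fun U hU U' hU' hle d hd f hf => ?_⟩
    have h1 := hv U hU U' hU' hle d hd f hf (RelProj.range_awayEmb_subset_domQ w pB chartB U hU U' hU' hle hd f hf)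
    rw [← h1]
    show RelProj.awayEmb w pB chartB U hU U' hU' hle hd f hf ≫ inv _ ≫ v = _
    rw [← Category.assoc]
    congr 1
    rw [IsIso.comp_inv_eq, IsOpenImmersion.lift_fac]
  haveI : IsClosedImmersion h := hclosed h hh
  have hcomp : ∀ x, h ((RelProj.domQ w pB chartB).ι x) = v x := fun x => by
    show ((RelProj.domQ w pB chartB).ι ≫ h) x = v x
    rw [IsIso.hom_inv_id_assoc]
  have hker : h.ker = i.ker := by
    have hoi : ∀ k : κ, IsOpenImmersion (eps chart (Uk k).1 (Uk k).2 (hdk k) (hfk k)) := fun k => by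
      unfold eps; infer_instance
    refine Scheme.IdealSheafData.ext_of_iSup_eq_top
      (fun k : κ => ⟨(eps chart (Uk k).1 (Uk k).2 (hdk k) (hfk k)).opensRange, isAffineOpen_opensRange _⟩) ?_ fun k => ?_
    · refine eq_top_iff.2 fun x _ => ?_
      obtain ⟨k, y, hy, hyx⟩ := hcov x
      obtain ⟨z, hz⟩ := (Proj.opensRange_awayι (𝒜.deg (Uk k).1 (Uk k).2) (fk k) (hfk k) (hdk k)).ge hy
      refine Opens.mem_iSup.2 ⟨k, z, ?_⟩
      show RelProj.emb p chart (Uk k).1 (Uk k).2 (Proj.awayι (𝒜.deg (Uk k).1 (Uk k).2) (fk k) (hfk k) (hdk k) z) = x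
      rw [hz]; exact hyx
    · obtain ⟨G, hG, hGmem⟩ := hgen k
      haveI := hoi k
      refine ideal_eq_of_ideal1_eq (eps chart (Uk k).1 (Uk k).2 (hdk k) (hfk k)) ?_
      suffices key : ∀ (U : S.Opens) (hU : IsAffineOpen U) (d : ℕ) (hd : 0 < d) (f : 𝒜.presheaf.obj (op U))
          (hf : f ∈ 𝒜.deg U hU d) [IsOpenImmersion (eps chart U hU hd hf)] (G : Set (Away (𝒜.deg U hU) f)),
          Ideal.span G = kid chart i.ker U hU hd hf →
          (∀ x ∈ G, ∃ (l : ℕ) (a : _) (ha : a ∈ 𝒜.deg U hU (l • d)) (n : ℕ),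
            x = Away.mk (𝒜.deg U hU) hf l a ha ∧ f ^ n * a ∈ D.J U hU) →
          ideal1 h.ker (eps chart U hU hd hf) = ideal1 i.ker (eps chart U hU hd hf) from
        key _ _ _ (hdk k) _ (hfk k) G hG hGmem
      intro U hU d hd f hf _ G hG hGmem
      let gr := w.gradedAt U hU U hU le_rfl
      let aB := RelProj.awayEmb w pB chartB U hU U hU le_rfl hd f hf
      haveI : IsOpenImmersion aB := by
        show IsOpenImmersion (RelProj.awayEmb w pB chartB U hU U hU le_rfl hd f hf)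
        unfold RelProj.awayEmb; infer_instance
      have hrange : ∀ {T : Scheme.{u}} {q : T ⟶ S} {𝒯 : RelProj.QCGrAlg S}
          (c : ∀ (U : S.Opens) (hU : IsAffineOpen U), (((q ⁻¹ᵁ U : T.Opens) : Scheme.{u}) ≅ Proj (𝒯.deg U hU)))
          (t : 𝒯.presheaf.obj (op U)) (ht : t ∈ 𝒯.deg U hU d),
          (Proj.awayι (𝒯.deg U hU) t ht hd ≫ RelProj.emb q c U hU).opensRange = QProj.nz c U hU t := fun c t ht => by
        rw [Scheme.Hom.opensRange_comp, Proj.opensRange_awayι]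
        rfl
      have hpre : h ⁻¹ᵁ (eps chart U hU hd hf).opensRange = aB.opensRange := by
        refine (congrArg (h ⁻¹ᵁ ·) (hrange chart f hf)).trans (Eq.trans ?_ (hrange chartB (gr f) (gr.map_mem hf)).symm)
        ext z
        obtain ⟨x, rfl⟩ : ∃ x, (RelProj.domQ w pB chartB).ι x = z := ⟨⟨z, htop.ge (Set.mem_univ z)⟩, rfl⟩
        constructor
        · intro hz
          have hz' : v x ∈ QProj.nz chart U hU f := hcomp x ▸ hz
          have hpU : pB x.1 ∈ U := by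
            have h1 : p (v x) ∈ U := QProj.nz_le U hU f hz'
            rw [QProj.apply_qMap w hP hB hv x] at h1
            exact h1
          exact (QProj.mem_preimage_nz_iff w hP hB hv U hU U hU le_rfl hd hf x hpU).1 hz'
        · intro hz
          show h ((RelProj.domQ w pB chartB).ι x) ∈ QProj.nz chart U hU f
          rw [hcomp]
          exact (QProj.mem_preimage_nz_iff w hP hB hv U hU U hU le_rfl hd hf x (QProj.nz_le U hU _ hz)).2 hz
      let m := CommRingCat.ofHom (Away.map gr f)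
      have hsq : aB ≫ h = Spec.map m ≫ eps chart U hU hd hf := hh.2 U hU U hU le_rfl d hd f hf
      have hpb := IsOpenImmersion.isPullback (Spec.map m) aB (eps chart U hU hd hf) h hsq hpre
      have hk : ideal1 h.ker (eps chart U hU hd hf) = RingHom.ker m.hom := by
        rw [ideal1, ← Scheme.IdealSheafData.ker_fst_of_isClosedImmersion, ← hpb.isoPullback_inv_fst,
          Scheme.Hom.ker_comp_of_isIso]
        exact ideal1_ker_spec m
      rw [hk]
      show RingHom.ker (Away.map gr f) = kid chart i.ker U hU hd hf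
      have hgr : ∀ y, gr y = (π.hom.app (op U)).hom y := QProj.gradedAt_ofHom_apply π hπ U hU
      refine le_antisymm (fun x hx => ?_) ?_
      · obtain ⟨l, a, ha, rfl⟩ := Away.mk_surjective (𝒜.deg U hU) hf x
        rw [RingHom.mem_ker, Away.map_mk gr f hf, ProjLib.away_mk_eq_zero_iff] at hx
        obtain ⟨j, hj⟩ := hx
        rw [hgr, hgr, ← map_pow, ← map_mul] at hj
        have h1 := hle U hU (((hπU U hU).2.1 _).1 hj)
        rw [mem_idealAt] at h1
        rw [mk_mem_iff hf hd]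
        exact (pow_mul_mem_sat_iff j).1 (h1 d hd f hf)
      · rw [← hG, Ideal.span_le]
        intro x hx
        obtain ⟨l, a, ha, j, rfl, hj⟩ := hGmem x hx
        rw [SetLike.mem_coe, RingHom.mem_ker, Away.map_mk gr f hf, ProjLib.away_mk_eq_zero_iff]
        refine ⟨j, ?_⟩
        rw [hgr, hgr, ← map_pow, ← map_mul]
        exact ((hπU U hU).2.1 _).2 hj
  haveI := IsClosedImmersion.isIso_lift h i hker
  refine ⟨ℬ, π, hπ, PB, pB, chartB, h, (asIso (IsClosedImmersion.lift h i hker.le)).symm, fun U hU => ⟨(hπU U hU).1, (hπU U hU).2.1⟩,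
    hB, hh, ?_⟩
  show inv (IsClosedImmersion.lift h i hker.le) ≫ i = h
  rw [IsIso.inv_comp_eq, IsClosedImmersion.lift_fac]


theorem exists_gradedQuotient_iso {S P Z : Scheme.{u}} (𝒜 : RelProj.QCGrAlg S)
    (p : P ⟶ S) (chart : ∀ (U : S.Opens) (hU : IsAffineOpen U), (((p ⁻¹ᵁ U : P.Opens) : Scheme.{u}) ≅ Proj (𝒜.deg U hU)))
    (hP : RelProj.IsRelProj 𝒜 p chart) [QuasiCompact p] (i : Z ⟶ P) [IsClosedImmersion i] :
    ∃ (ℬ : RelProj.QCGrAlg S) (φ : 𝒜.toQCAlg ⟶ ℬ.toQCAlg) (hφ : RelProj.IsGradedHom φ) (PB : Scheme.{u})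
      (pB : PB ⟶ S) (chartB : ∀ (U : S.Opens) (hU : IsAffineOpen U), (((pB ⁻¹ᵁ U : PB.Opens) : Scheme.{u}) ≅ Proj (ℬ.deg U hU)))
      (h : PB ⟶ P) (e : PB ≅ Z),
      (∀ (U : S.Opens), IsAffineOpen U → Function.Surjective (φ.hom.app (op U)).hom) ∧
        RelProj.IsRelProj ℬ pB chartB ∧ RelProj.IsProjQMap (RelProj.QGrHom.ofHom φ hφ) p chart pB chartB h ∧
        e.hom ≫ i = h := by
  classical
  obtain ⟨D, hD⟩ := exists_idealData chart i.ker hP
  obtain ⟨ℬ, φ, hφ, PB, pB, chartB, h, e, h1, h2, h3, h4⟩ := exists_iso_of_data 𝒜 p chart hP i D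
    (fun U hU => (hD U hU).le)
    (fun k : Σ (U : S.affineOpens) (d : {d : ℕ // 0 < d}), 𝒜.deg U.1 U.2 d.1 => k.1) (fun k => k.2.1.1)
    (fun k => k.2.1.2) (fun k => k.2.2.1) (fun k => k.2.2.2) (fun x => by
      obtain ⟨U, hxU⟩ := Opens.mem_iSup.mp ((ProjLib.iSup_preimage_affine p).ge (Set.mem_univ x))
      obtain ⟨d, hd, f, hf, hxf⟩ := QProj.exists_nz_mem (chart := chart) U.1 U.2 hxU
      exact ⟨⟨U, ⟨d, hd⟩, f, hf⟩, hxf⟩)
    (fun k => ⟨_, Ideal.span_eq _, fun x hx => by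
      obtain ⟨l, a, ha, rfl⟩ := Away.mk_surjective (𝒜.deg k.1.1 k.1.2) k.2.2.2 x
      obtain ⟨n, hn⟩ := exists_pow_mul_mem (chart := chart) i.ker k.1.2 k.2.1.2 k.2.2.2
        ((mk_mem_iff k.2.2.2 k.2.1.2 _ l a ha).1 hx)
      exact ⟨l, a, ha, n, rfl, by rw [hD]; exact hn⟩⟩)
  exact ⟨ℬ, φ, hφ, PB, pB, chartB, h, e, fun U hU => (h1 U hU).1, h2, h3, h4⟩

end Groth.Agent.RPQ28
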