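import Groth.Agent.ProjFP28.Ring
import Mathlib.AlgebraicGeometry.ProjectiveSpectrum.Basic

/-!
# Ideals of degree-zero localisations extended to the full localisation
-/

set_option autoImplicit false
set_option linter.style.haveILetI false
set_option linter.unusedSectionVars false
set_option backward.isDefEq.respectTransparency.types false
set_option maxHeartbeats 1000000
set_option synthInstance.maxHeartbeats 400000

universe u

open HomogeneousLocalization DirectSum

namespace Groth.Agent.RPQ28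

open ProjFP28 (L theta phi psiC psiC_zero_phi psiC_zero_range psiC_phi_mul)

variable {A σ : Type u} [CommRing A] [SetLike σ A] [AddSubgroupClass σ A] {𝒜 : ℕ → σ} [GradedRing 𝒜]
  {e : ℕ} {g : A}

/-- The extension to the full localisation. -/
noncomputable def ext (K : Ideal (Away 𝒜 g)) : Ideal (L g) :=
  K.map (algebraMap (Away 𝒜 g) (L g))

theorem val_mem_ext_iff (hg : g ∈ 𝒜 e) (he : 0 < e) (K : Ideal (Away 𝒜 g)) (y : Away 𝒜 g) :
    y.val ∈ ext K ↔ y ∈ K := by
  refine ⟨fun h => ?_, fun h => Ideal.mem_map_of_mem _ h⟩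
  have h1 : phi (𝒜 := 𝒜) g y ∈ K.map (phi (𝒜 := 𝒜) g) := by
    have := Ideal.mem_map_of_mem (theta g) h
    rwa [ext, Ideal.map_map] at this
  have h2 : ∀ c ∈ K.map (phi (𝒜 := 𝒜) g), ∃ k ∈ K, psiC hg he 0 c = k.val := by
    intro c hc
    induction hc using Submodule.span_induction with
    | mem c hc =>
      obtain ⟨k, hk, rfl⟩ := hc
      exact ⟨k, hk, psiC_zero_phi hg he k⟩
    | zero => exact ⟨0, zero_mem _, by rw [map_zero, HomogeneousLocalization.val_zero]⟩
    | add a b _ _ ha hb =>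
      obtain ⟨k, hk, h⟩ := ha
      obtain ⟨l, hl, h'⟩ := hb
      exact ⟨k + l, add_mem hk hl, by rw [map_add, h, h', HomogeneousLocalization.val_add]⟩
    | smul r c hcs hc =>
      suffices ∀ c' ∈ K.map (phi (𝒜 := 𝒜) g), ∀ r, ∃ k ∈ K, psiC hg he 0 (r * c') = k.val from this c hcs r
      intro c' hc'
      clear hc hcs c
      induction hc' using Submodule.span_induction with
      | mem c hc =>
        obtain ⟨k, hk, rfl⟩ := hc
        intro r
        obtain ⟨q, hq⟩ := psiC_zero_range hg he r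
        refine ⟨k * q, Ideal.mul_mem_right _ _ hk, ?_⟩
        rw [mul_comm r, psiC_phi_mul, ← hq, HomogeneousLocalization.val_mul]
      | zero => intro r; exact ⟨0, zero_mem _, by rw [mul_zero, map_zero, HomogeneousLocalization.val_zero]⟩
      | add a b _ _ ha hb =>
        intro r
        obtain ⟨k, hk, h⟩ := ha r
        obtain ⟨l, hl, h'⟩ := hb r
        exact ⟨k + l, add_mem hk hl, by rw [mul_add, map_add, h, h', HomogeneousLocalization.val_add]⟩
      | smul s c _ hc =>
        intro r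
        rw [smul_eq_mul, ← mul_assoc]
        exact hc _
  obtain ⟨k, hk, hk'⟩ := h2 _ h1
  rw [psiC_zero_phi] at hk'
  rwa [HomogeneousLocalization.val_injective _ hk']

/-- The contraction to the ring. -/
noncomputable def sat (K : Ideal (Away 𝒜 g)) : Ideal A :=
  (ext K).comap (algebraMap A (L g))

theorem mem_sat_iff {K : Ideal (Away 𝒜 g)} {a : A} : a ∈ sat K ↔ algebraMap A (L g) a ∈ ext K := Iff.rfl

theorem pow_mul_mem_sat_iff {K : Ideal (Away 𝒜 g)} {a : A} (N : ℕ) : g ^ N * a ∈ sat K ↔ a ∈ sat K := by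
  rw [mem_sat_iff, mem_sat_iff, map_mul, map_pow]
  exact Ideal.unit_mul_mem_iff_mem _ ((IsLocalization.Away.algebraMap_isUnit g).pow N)

theorem mk_mem_iff (hg : g ∈ 𝒜 e) (he : 0 < e) (K : Ideal (Away 𝒜 g)) (l : ℕ) (a : A) (ha : a ∈ 𝒜 (l • e)) :
    Away.mk 𝒜 hg l a ha ∈ K ↔ a ∈ sat K := by
  rw [← val_mem_ext_iff hg he K, mem_sat_iff, Away.val_mk, Localization.mk_eq_mk']
  conv_rhs => rw [← IsLocalization.mk'_spec (L g) a (⟨g ^ l, l, rfl⟩ : Submonoid.powers g)]
  rw [mul_comm, Ideal.unit_mul_mem_iff_mem _ (IsLocalization.map_units (L g) _)]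

theorem sat_homog (hg : g ∈ 𝒜 e) (he : 0 < e) (K : Ideal (Away 𝒜 g)) {a : A} (ha : a ∈ sat K) (n : ℕ) :
    (decompose 𝒜 a n : A) ∈ sat K := by
  classical
  let H : Ideal A := Ideal.span {x | SetLike.IsHomogeneousElem 𝒜 x ∧ x ∈ sat K}
  have hH : H.IsHomogeneous 𝒜 := Ideal.homogeneous_span _ _ fun x hx => hx.1
  have hHle : H ≤ sat K := Ideal.span_le.2 fun x hx => hx.2
  have key : ∀ y ∈ ext K, ∀ r : L g, ∃ (N : ℕ) (a' : A), a' ∈ H ∧
      r * y * algebraMap A (L g) g ^ N = algebraMap A (L g) a' := by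
    intro y hy
    induction hy using Submodule.span_induction with
    | mem y hy =>
      obtain ⟨k, hk, rfl⟩ := hy
      obtain ⟨l, x, hx, rfl⟩ := Away.mk_surjective 𝒜 hg k
      intro r
      obtain ⟨⟨b, ⟨_, M, rfl⟩⟩, hb⟩ := IsLocalization.surj (Submonoid.powers g) r
      refine ⟨M + l, b * x, Ideal.mul_mem_left _ _ (Ideal.subset_span ⟨⟨_, hx⟩, (mk_mem_iff hg he K l x hx).1 hk⟩), ?_⟩
      have hv : (Away.mk 𝒜 hg l x hx).val * algebraMap A (L g) g ^ l = algebraMap A (L g) x := by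
        rw [Away.val_mk, Localization.mk_eq_mk', ← map_pow]
        exact IsLocalization.mk'_spec (L g) x (⟨g ^ l, l, rfl⟩ : Submonoid.powers g)
      rw [map_mul, ← hb, ← hv, map_pow, pow_add]
      show r * (Away.mk 𝒜 hg l x hx).val * _ = _
      ring
    | zero => intro r; exact ⟨0, 0, zero_mem _, by simp⟩
    | add y z _ _ hy hz =>
      intro r
      obtain ⟨N, a₁, h₁, e₁⟩ := hy r
      obtain ⟨M, a₂, h₂, e₂⟩ := hz r
      refine ⟨N + M, g ^ M * a₁ + g ^ N * a₂, add_mem (Ideal.mul_mem_left _ _ h₁) (Ideal.mul_mem_left _ _ h₂), ?_⟩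
      rw [map_add, map_mul, map_mul, ← e₁, ← e₂, map_pow, map_pow, pow_add]
      ring
    | smul s y _ hy =>
      intro r
      rw [smul_eq_mul, ← mul_assoc]
      exact hy _
  obtain ⟨N, a', ha', heq⟩ := key _ ha 1
  rw [one_mul, ← map_pow, ← map_mul] at heq
  obtain ⟨⟨_, M, rfl⟩, hM⟩ := (IsLocalization.eq_iff_exists (Submonoid.powers g) (L g)).1 heq
  change g ^ M * (a * g ^ N) = g ^ M * a' at hM
  have h1 : g ^ (M + N) * a ∈ H := by
    rw [show g ^ (M + N) * a = g ^ M * a' by rw [← hM, pow_add]; ring]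
    exact Ideal.mul_mem_left _ _ ha'
  have h2 := hH ((M + N) • e + n) h1
  rw [coe_decompose_mul_add_of_left_mem 𝒜 (SetLike.pow_mem_graded (M + N) hg)] at h2
  exact (pow_mul_mem_sat_iff (M + N)).1 (hHle h2)

/-- A covering family generates the unit ideal after inverting an element of positive degree. -/
theorem span_eq_top {ι : Type*} (h : ι → A) (hh : ∀ i, SetLike.IsHomogeneousElem 𝒜 (h i))
    (hcov : ∀ x : AlgebraicGeometry.Proj 𝒜, ∃ i, x ∈ AlgebraicGeometry.Proj.basicOpen 𝒜 (h i))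
    (hg : g ∈ 𝒜 e) (he : 0 < e) : Ideal.span (Set.range fun i => algebraMap A (L g) (h i)) = ⊤ := by
  have hrad : g ∈ (Ideal.span (Set.range h)).radical := by
    rw [Ideal.radical_eq_sInf, Submodule.mem_sInf]
    rintro p ⟨hp, hpp⟩
    by_contra hgp
    have hcore : Ideal.IsPrime (Ideal.homogeneousCore 𝒜 p).toIdeal := hpp.homogeneousCore
    have hgc : g ∉ (Ideal.homogeneousCore 𝒜 p).toIdeal := fun h' => hgp (Ideal.toIdeal_homogeneousCore_le 𝒜 p h')
    let x : AlgebraicGeometry.Proj 𝒜 := ⟨Ideal.homogeneousCore 𝒜 p, hcore,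
      fun hle => hgc (hle (HomogeneousIdeal.mem_irrelevant_of_mem _ he hg))⟩
    obtain ⟨i, hi⟩ := hcov x
    exact hi (Ideal.mem_homogeneousCore_of_homogeneous_of_mem (hh i) (hp (Ideal.subset_span ⟨i, rfl⟩)))
  obtain ⟨N, hN⟩ := hrad
  rw [Set.range_comp' (algebraMap A (L g)) h, ← Ideal.map_span]
  exact Ideal.eq_top_of_isUnit_mem _ (Ideal.mem_map_of_mem _ hN)
    (by rw [map_pow]; exact (IsLocalization.Away.algebraMap_isUnit g).pow N)

/-- The comparison map to a localisation at a multiple. -/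
noncomputable def up {A' : Type u} [CommRing A'] {g' : A'} (ψ : A →+* A') (h : IsUnit (algebraMap A' (L g') (ψ g))) :
    L g →+* L g' :=
  IsLocalization.Away.lift g (g := (algebraMap A' (L g')).comp ψ) h

theorem up_algebraMap {A' : Type u} [CommRing A'] {g' : A'} (ψ : A →+* A')
    (h : IsUnit (algebraMap A' (L g') (ψ g))) (a : A) : up ψ h (algebraMap A (L g) a) = algebraMap A' (L g') (ψ a) :=
  IsLocalization.Away.lift_eq g _ a

end Groth.Agent.RPQ28
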